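import Mathlib
import Groth.Agent.Lib.Helper1.AmpleCrit2
import Groth.Agent.Lib.Helper7.LimIdeal

set_option linter.style.haveILetI false
set_option linter.unusedVariables false
set_option linter.unusedSectionVars false
set_option autoImplicit false
set_option backward.isDefEq.respectTransparency.types false
set_option backward.isDefEq.respectTransparency false
set_option synthInstance.maxHeartbeats 400000
set_option maxHeartbeats 1600000

universe u
open CategoryTheory CategoryTheory.Limits AlgebraicGeometry TopologicalSpace Opposite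

/-! helper7: a closed subscheme of a quasi-compact quasi-separated scheme is the limit of the
closed subschemes of finite presentation containing it. -/

namespace Groth.Agent.Helper7.ClLim

open Groth.Agent.Helper1 Groth.Agent.Helper1.SubSh Groth.Agent.Helper1.AmpleLib

variable {Y : Scheme.{u}}

/-- every section of a quasi-coherent ideal over an affine open lies in a quasi-coherent sub-ideal
of finite type. -/
theorem exists_fg_le_mem [CompactSpace Y] [QuasiSeparatedSpace Y] (I : Y.IdealSheafData)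
    (U : Y.affineOpens) (s : Γ(Y, U.1)) (hs : s ∈ I.ideal U) :
    ∃ J : Y.IdealSheafData, J ≤ I ∧ (∀ V : Y.affineOpens, (J.ideal V).FG) ∧ s ∈ J.ideal U := by
  have hs0 : (I.subschemeι.app U.1).hom s = 0 := by
    have : s ∈ RingHom.ker (I.subschemeι.app U.1).hom := by
      rw [I.ker_subschemeι_app U]
      exact hs
    exact this
  obtain ⟨y, hy⟩ := IdealModL.exists_of_app_eq_zero I U.1 s hs0
  obtain ⟨G', hG', hGU⟩ := LocalSub.exists_extension_of_qcqs (F := ClSub.idealMod I) U.1
    U.2.isCompact (LocalSub.genOn U.1 {y}) (LocalSub.genOn_singleton_isQcFtOn U.2 _)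
  have hyG : y ∈ G'.carrier U.1 := by
    rw [hGU U.1 le_rfl]
    exact LocalSub.mem_genOn_singleton _
  haveI hqcJ : G'.obj.IsQuasicoherent := G'.isQuasicoherent_obj hG'.isQcOn
  let i : G'.obj ⟶ Coh.structureModule Y := G'.ι ≫ ClSub.idealModι I
  refine ⟨imageIdeal G'.obj i, ?_,
    isFiniteTypeIdeal_imageIdeal G'.obj (G'.isFiniteType_obj hG') i, ?_⟩
  · intro V r hr
    rw [imageIdeal_ideal] at hr
    obtain ⟨j, rfl⟩ := hr
    rw [← I.ker_subschemeι_app V]
    exact IdealModL.toSubscheme_ι I V.1 (G'.ι.app V.1 j)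
  · rw [imageIdeal_ideal]
    exact ⟨G'.mkSec y hyG, hy⟩

section Limit

variable {X : Scheme.{u}} (ι : X ⟶ Y)

/-- the sub-ideals of finite type of the kernel. -/
abbrev Idx : Type u :=
  {J : Y.IdealSheafData // J ≤ ι.ker ∧ ∀ V : Y.affineOpens, (J.ideal V).FG}

theorem isDirected_idx : IsDirected (Idx ι) (fun a b => a ≤ b) :=
  ⟨fun a b => ⟨⟨a.1 ⊔ b.1, sup_le a.2.1 b.2.1, fun V => by
      show ((a.1.ideal V) ⊔ (b.1.ideal V)).FG
      exact Submodule.FG.sup (a.2.2 V) (b.2.2 V)⟩,
    (le_sup_left : a.1 ≤ a.1 ⊔ b.1), (le_sup_right : b.1 ≤ a.1 ⊔ b.1)⟩⟩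

theorem nonempty_idx : Nonempty (Idx ι) :=
  ⟨⟨⊥, bot_le, fun V => by
    show (⊥ : Ideal Γ(Y, V.1)).FG
    exact Submodule.fg_bot⟩⟩

theorem over_hom_ext_of_mono {A B : Over Y} [Mono B.hom] (f g : A ⟶ B) : f = g := by
  apply Over.OverMorphism.ext
  rw [← cancel_mono B.hom, Over.w f, Over.w g]

/-- the diagram of closed subschemes of finite presentation. -/
noncomputable def diag : (Idx ι)ᵒᵖ ⥤ Over Y where
  obj a := Over.mk a.unop.1.subschemeι
  map {a b} f := Over.homMk
    (Scheme.IdealSheafData.inclusion (show b.unop.1 ≤ a.unop.1 from leOfHom f.unop))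
    (Scheme.IdealSheafData.inclusion_subschemeι _)
  map_id a := by
    haveI : Mono (Over.mk a.unop.1.subschemeι).hom := inferInstanceAs (Mono a.unop.1.subschemeι)
    exact over_hom_ext_of_mono _ _
  map_comp {a b c} f g := by
    haveI : Mono (Over.mk c.unop.1.subschemeι).hom := inferInstanceAs (Mono c.unop.1.subschemeι)
    exact over_hom_ext_of_mono _ _

instance mono_diag_obj_hom (a : (Idx ι)ᵒᵖ) : Mono ((diag ι).obj a).hom :=
  inferInstanceAs (Mono a.unop.1.subschemeι)

variable [IsClosedImmersion ι]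

/-- the cone over the diagram with vertex the closed subscheme. -/
noncomputable def cone : Cone (diag ι) where
  pt := Over.mk ι
  π :=
    { app := fun a => Over.homMk
        (IsClosedImmersion.lift a.unop.1.subschemeι ι (by
          rw [Scheme.IdealSheafData.ker_subschemeι]
          exact a.unop.2.1))
        (IsClosedImmersion.lift_fac _ _ _)
      naturality := fun a b f => over_hom_ext_of_mono _ _ }

theorem ker_le_of_cone [CompactSpace Y] [QuasiSeparatedSpace Y] (s : Cone (diag ι)) :
    ι.ker ≤ s.pt.hom.ker := by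
  intro U x hx
  obtain ⟨J, hJle, hJfg, hxJ⟩ := exists_fg_le_mem ι.ker U x hx
  let a : Idx ι := ⟨J, hJle, hJfg⟩
  have h1 : (s.π.app (op a)).left ≫ J.subschemeι = s.pt.hom := Over.w (s.π.app (op a))
  have h2 : J.subschemeι.ker ≤ ((s.π.app (op a)).left ≫ J.subschemeι).ker :=
    Scheme.Hom.le_ker_comp _ _
  rw [Scheme.IdealSheafData.ker_subschemeι, h1] at h2
  exact h2 U hxJ

/-- the closed subscheme is the limit of the diagram. -/
noncomputable def isLimitCone [CompactSpace Y] [QuasiSeparatedSpace Y] : IsLimit (cone ι) where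
  lift s := Over.homMk (IsClosedImmersion.lift ι s.pt.hom (ker_le_of_cone ι s))
    (IsClosedImmersion.lift_fac _ _ _)
  fac s a := over_hom_ext_of_mono _ _
  uniq s m hm := by
    haveI : Mono (cone ι).pt.hom := inferInstanceAs (Mono ι)
    exact over_hom_ext_of_mono _ _

theorem main [CompactSpace Y] [QuasiSeparatedSpace Y] :
    ∃ (I : Type u) (_ : Preorder I) (_ : IsDirected I (fun a b => a ≤ b)) (_ : Nonempty I)
      (D : Iᵒᵖ ⥤ Over Y) (c : Limits.Cone D) (_ : Limits.IsLimit c),
      (∀ i, IsClosedImmersion (D.obj i).hom ∧ LocallyOfFinitePresentation (D.obj i).hom) ∧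
      Nonempty (c.pt ≅ Over.mk ι) :=
  ⟨Idx ι, inferInstance, isDirected_idx ι, nonempty_idx ι, diag ι, cone ι, isLimitCone ι,
    fun i => ⟨inferInstanceAs (IsClosedImmersion i.unop.1.subschemeι),
      LimIdeal.lfp_subschemeι_of_fg i.unop.1 i.unop.2.2⟩, ⟨Iso.refl _⟩⟩

end Limit

end Groth.Agent.Helper7.ClLim
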